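import Groth.Agent.GeomIrred.Scheme
import Groth.Prelude.Def_Red

/-! Morphisms with connected geometric fibres factor morphisms to etale separated schemes. -/

set_option autoImplicit false
set_option linter.style.haveILetI false

universe u

open CategoryTheory Limits AlgebraicGeometry

noncomputable section

namespace Groth.Agent.ConnFactLib

variable {S : Scheme.{u}}

theorem geometricallyConnected_of_geomFibre {M C : Scheme.{u}} (p : M ⟶ C)
    (h : ∀ c : C, ConnectedSpace ↥(Red.geomFibre c (Over.mk p)).left) : GeometricallyConnected p := by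
  rw [GeometricallyConnected.iff_geometricallyConnected_fiber]
  intro c
  let g := Spec.map (CommRingCat.ofHom (algebraMap (C.residueField c) (AlgebraicClosure (C.residueField c))))
  haveI : Surjective g := GeomIrred.surjective_specMap_field _ _
  haveI : ConnectedSpace ↥(pullback (p.fiberToSpecResidueField c) g) :=
    ((pullbackLeftPullbackSndIso p (C.fromSpecResidueField c) g).hom.homeomorph.connectedSpace_iff).2 (h c)
  haveI : GeometricallyConnected (pullback.snd (p.fiberToSpecResidueField c) g) :=
    GeomIrred.geometricallyConnected_of_connectedSpace _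
  exact GeomIrred.geometricallyConnected_of_surjective _ g

/-- A morphism to a scheme which is separated and unramified over `S` is constant on connected fibres. -/
theorem exists_factor {M C D : Over S} (p : M ⟶ C) (q : M ⟶ D) [Flat p.left] [LocallyOfFinitePresentation p.left]
    [Surjective p.left] [QuasiCompact p.left] [IsSeparated D.hom] [FormallyUnramified D.hom]
    [LocallyOfFiniteType D.hom] (hconn : ∀ c : C.left, ConnectedSpace ↥(Red.geomFibre c (Over.mk p.left)).left) :
    ∃ r : C ⟶ D, p ≫ r = q := by
  haveI := geometricallyConnected_of_geomFibre p.left hconn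
  haveI : UniversallyOpen p.left := inferInstance
  let R := pullback p.left p.left
  let a : R ⟶ M.left := pullback.fst p.left p.left
  let b : R ⟶ M.left := pullback.snd p.left p.left
  have hab : a ≫ p.left = b ≫ p.left := pullback.condition
  have hS : (a ≫ q.left) ≫ D.hom = (b ≫ q.left) ≫ D.hom := by
    rw [Category.assoc, Category.assoc, Over.w q, ← Over.w p, reassoc_of% hab]
  let w : R ⟶ pullback D.hom D.hom := pullback.lift (a ≫ q.left) (b ≫ q.left) hS
  let e : pullback w (pullback.diagonal D.hom) ⟶ R := pullback.fst _ _
  have he : e ≫ a ≫ q.left = e ≫ b ≫ q.left := by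
    have h1 := congrArg (· ≫ pullback.fst D.hom D.hom) (pullback.condition (f := w) (g := pullback.diagonal D.hom))
    have h2 := congrArg (· ≫ pullback.snd D.hom D.hom) (pullback.condition (f := w) (g := pullback.diagonal D.hom))
    simp only [Category.assoc, w, pullback.lift_fst, pullback.lift_snd, pullback.diagonal_fst,
      pullback.diagonal_snd, Category.comp_id] at h1 h2
    exact h1.trans h2.symm
  haveI : IsOpenImmersion e := MorphismProperty.pullback_fst (P := @IsOpenImmersion) _ _ inferInstance
  haveI : IsClosedImmersion e := MorphismProperty.pullback_fst (P := @IsClosedImmersion) _ _ inferInstance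
  have hclo : IsClopen (Set.range e) := ⟨e.isClosedEmbedding.isClosed_range, e.isOpenEmbedding.isOpen_range⟩
  have hdiag : ∀ m : M.left, pullback.diagonal p.left m ∈ Set.range e := by
    intro m
    let l : M.left ⟶ pullback w (pullback.diagonal D.hom) := pullback.lift (pullback.diagonal p.left) q.left (by
      refine pullback.hom_ext ?_ ?_ <;> simp [w, a, b, reassoc_of% pullback.diagonal_fst p.left, reassoc_of% pullback.diagonal_snd p.left, pullback.lift_fst, pullback.lift_snd])
    refine ⟨l m, ?_⟩
    rw [← Scheme.Hom.comp_apply, show l ≫ e = pullback.diagonal p.left from pullback.lift_fst _ _ _]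
  haveI : GeometricallyConnected (a ≫ p.left) := GeometricallyConnected.comp a p.left
  have hsurj : Surjective e := ⟨fun r => by
    have hc : _root_.IsPreconnected ((a ≫ p.left) ⁻¹' {(a ≫ p.left) r}) :=
      ((a ≫ p.left).isConnected_preimage_singleton _).isPreconnected
    have hm : pullback.diagonal p.left (a r) ∈ (a ≫ p.left) ⁻¹' {(a ≫ p.left) r} ∩ Set.range e := by
      refine ⟨?_, hdiag _⟩
      show (a ≫ p.left) (pullback.diagonal p.left (a r)) = (a ≫ p.left) r
      rw [← Scheme.Hom.comp_apply, show pullback.diagonal p.left ≫ a ≫ p.left = p.left from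
        by simp [a], Scheme.Hom.comp_apply]
    exact hc.subset_isClopen hclo ⟨_, hm⟩ rfl⟩
  haveI : Epi e := by
    haveI : IsIso e := IsOpenImmersion.isIso e
    infer_instance
  have key : a ≫ q.left = b ≫ q.left := (cancel_epi e).1 he
  obtain ⟨r, hr⟩ : ∃ r : C.left ⟶ D.left, p.left ≫ r = q.left :=
    ⟨EffectiveEpi.desc p.left q.left fun g₁ g₂ hg => by
      obtain ⟨l, rfl, rfl⟩ : ∃ l, l ≫ a = g₁ ∧ l ≫ b = g₂ :=
        ⟨pullback.lift g₁ g₂ hg, pullback.lift_fst _ _ _, pullback.lift_snd _ _ _⟩
      rw [Category.assoc, Category.assoc, key], EffectiveEpi.fac _ _ _⟩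
  refine ⟨Over.homMk r ?_, ?_⟩
  · rw [← cancel_epi p.left, reassoc_of% hr, Over.w q, Over.w p]
  · ext
    exact hr

end Groth.Agent.ConnFactLib
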